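import Groth.Agent.Surf.K460.ZGeo
import Groth.Agent.Ega2.AmpleSec

/-!
# Rational functions as ratios of sections of powers of an ample module

* `mem_genLocus`: the generating locus of a section in terms of its value in the function field;
* `exists_frac`: every rational function regular at `x` is `f / g` with `f`, `g` sections of a power of an ample
  module, `g` a generator at `x`.
-/

set_option autoImplicit false
universe u
open CategoryTheory CategoryTheory.Limits AlgebraicGeometry TopologicalSpace Opposite IsLocalRing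

namespace Groth.Agent.Surf.K405.AmpFrac

open Groth.Agent Groth.Agent.Fdesc.LocGen Groth.Agent.Lefpen.H725.CocDef Groth.Agent.Lefpen.H521.CartierCoc
open K801.Cousin K801.CousinH1 K801.LEq K460.ZSec K460.ZCurve
open Groth.Agent.Dix.IdealModCartier

variable {X : Scheme.{u}} [IsIntegral X]

/-- The generating locus of a section consists of the points at which its value is a generator. -/
theorem mem_genLocus {L : X.Modules} {c : X → X.functionField} (D : Dat L c) (w : Coh.structureModule X ⟶ L) (x : X) :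
    x ∈ CohB1.genLocus L w ↔
      UnitAt x (D.value (sec w (⊤ : X.Opens)) (⟨genericPoint X, trivial⟩ : (⊤ : X.Opens)) / c x) := by
  have hx : x ∈ (⊤ : X.Opens) ⊓ D.U x := ⟨trivial, D.hU x⟩
  have h1 : sec w ((⊤ : X.Opens) ⊓ D.U x) = D.coef (sec w ⊤) x • res L inf_le_right (D.e x) := by
    rw [← res_sec w (inf_le_left : (⊤ : X.Opens) ⊓ D.U x ≤ ⊤)]
    exact D.coef_spec (sec w ⊤) x
  have h2 := genLocus_inf_eq w ((D.gen x).res (inf_le_right : (⊤ : X.Opens) ⊓ D.U x ≤ D.U x)) h1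
  have h3 : D.value (sec w (⊤ : X.Opens)) (⟨genericPoint X, trivial⟩ : (⊤ : X.Opens)) / c x =
      ff ((⊤ : X.Opens) ⊓ D.U x) (gen_mem hx) (D.coef (sec w ⊤) x) := by
    rw [D.value_const (sec w ⊤) (⟨genericPoint X, trivial⟩ : (⊤ : X.Opens)) (⟨x, trivial⟩ : (⊤ : X.Opens))]
    unfold Dat.value
    exact mul_div_cancel_right₀ _ (D.h0 x)
  rw [h3, unitAt_iff hx, ← h2]
  exact ⟨fun h => ⟨h, hx⟩, fun h => h.1⟩

/-- A rational function regular on `D(t)` becomes regular after multiplication with a power of `t`. -/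
theorem exists_pow {V : X.Opens} (hV : IsAffineOpen V) (hη : genericPoint X ∈ V) (t : Γ(X, V)) (ht : t ≠ 0)
    {u : X.functionField} (hu : ∀ z ∈ X.basicOpen t, RegAt z u) :
    ∃ N : ℕ, ∀ n, N ≤ n → ∀ z ∈ V, RegAt z (ff V hη t ^ n * u) := by
  have hle : X.basicOpen t ≤ V := X.basicOpen_le t
  have hη' : genericPoint X ∈ X.basicOpen t := by
    have h1 : X.basicOpen t ≠ ⊥ := by
      rw [Ne, basicOpen_eq_bot_iff]
      exact ht
    obtain ⟨y, hy⟩ : ((X.basicOpen t : X.Opens) : Set X).Nonempty := by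
      rw [Set.nonempty_iff_ne_empty]
      intro h3
      exact h1 (Opens.ext h3)
    exact gen_mem hy
  obtain ⟨b, hb⟩ := exists_of_regAt hη' hu
  have := hV.isLocalization_basicOpen t
  obtain ⟨N, a, ha⟩ := IsLocalization.Away.surj t b
  have h2 : ff (X.basicOpen t) hη' (algebraMap Γ(X, V) Γ(X, X.basicOpen t) t) = ff V hη t := ff_ores hle hη' t
  have h3 : ff (X.basicOpen t) hη' (algebraMap Γ(X, V) Γ(X, X.basicOpen t) a) = ff V hη a := ff_ores hle hη' a
  have h4 := congrArg (ff (X.basicOpen t) hη') ha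
  rw [map_mul, map_pow, h2, h3, hb] at h4
  refine ⟨N, fun n hn z hz => ⟨V, hz, hη, t ^ (n - N) * a, ?_⟩⟩
  rw [map_mul, map_pow, ← h4, mul_left_comm, ← pow_add, Nat.sub_add_cancel hn, mul_comm]

theorem unitAt_pow {x : X} {u : X.functionField} (h : UnitAt x u) (n : ℕ) : UnitAt x (u ^ n) := by
  obtain ⟨U, hx, hη, g, hg, rfl⟩ := h
  exact ⟨U, hx, hη, g ^ n, hg.pow n, map_pow _ _ _⟩

attribute [local instance] algK

/-- Rational functions are ratios of sections of powers of an ample module. -/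
theorem exists_frac (k : Type u) [Field k] {X : Scheme.{u}} [X.Over (Spec (CommRingCat.of k))] [IsIntegral X]
    [IsProper (X ↘ Spec (CommRingCat.of k))] {D : X.Modules} (hD : CohB1.IsAmple D) {δ : X → X.functionField}
    (hδ : HasCoc D δ) {x : X} {u : X.functionField} (hu : RegAt x u) :
    ∃ (n : ℕ) (f g : X.functionField), f ∈ secs k (fun x => δ x ^ (n : ℤ)) ∧ g ∈ secs k (fun x => δ x ^ (n : ℤ)) ∧
      UnitAt x (g / δ x ^ (n : ℤ)) ∧ u = f / g := by
  classical
  have hsep : X.IsSeparated := ⟨by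
    rw [show terminal.from X = (X ↘ Spec (CommRingCat.of k)) ≫ terminal.from _ from terminal.hom_ext _ _]
    infer_instance⟩
  have hcomp : CompactSpace X := hD.2.1
  obtain ⟨W, hxW, hηW, g₀, hg₀⟩ := hu
  obtain ⟨n, w, hxw, hwW, -⟩ := Ega2.AmpleSec.exists_affine_genLocus_nhd hD W x hxW
  obtain ⟨E⟩ := nonempty_dat (hasCoc_pow hδ (n + 1))
  let s : X.functionField := E.value (sec w (⊤ : X.Opens)) (⟨genericPoint X, trivial⟩ : (⊤ : X.Opens))
  have hs : ∀ z, RegAt z (s / δ z ^ (n + 1)) := fun z => by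
    change RegAt z (E.value _ _ / _)
    rw [E.value_const (sec w ⊤) (⟨genericPoint X, trivial⟩ : (⊤ : X.Opens)) (⟨z, trivial⟩ : (⊤ : X.Opens))]
    exact E.value_mem (sec w ⊤) (⟨z, trivial⟩ : (⊤ : X.Opens))
  have hu' : ∀ z, UnitAt z (s / δ z ^ (n + 1)) → RegAt z u := fun z hz =>
    ⟨W, hwW ((mem_genLocus E w z).2 hz), hηW, g₀, hg₀⟩
  have hsx : UnitAt x (s / δ x ^ (n + 1)) := (mem_genLocus E w x).1 hxw
  have hs0 : s ≠ 0 := fun h => unitAt_ne_zero hsx (by rw [h, zero_div])
  -- the local bound for the denominators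
  have key : ∀ y : X, ∃ (V : X.Opens) (N : ℕ), y ∈ V ∧ ∀ m, N ≤ m → ∀ z ∈ V,
      RegAt z ((s / δ z ^ (n + 1)) ^ m * u) := by
    intro y
    obtain ⟨V, hyV, hV⟩ := exists_affine_mem_le (E.U y) y (E.hU y)
    obtain ⟨t, ht⟩ := exists_of_regAt (V := V.1) (gen_mem hyV) (u := s / δ y ^ (n + 1)) (fun z hz => by
      have h1 := E.unitAt_of_mem (hV hz)
      have h2 : s / δ y ^ (n + 1) = s / δ z ^ (n + 1) * (δ z ^ (n + 1) / δ y ^ (n + 1)) := by
        rw [div_mul_div_cancel₀ (E.h0 z)]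
      rw [h2]
      exact regAt_mul (hs z) (unitAt_regAt h1))
    have ht0 : t ≠ 0 := by
      rintro rfl
      rw [map_zero] at ht
      exact div_ne_zero hs0 (E.h0 y) ht.symm
    have hz' : ∀ z ∈ X.basicOpen t, RegAt z u := by
      intro z hz
      have hzV : z ∈ V.1 := X.basicOpen_le t hz
      have h1 : UnitAt z (s / δ y ^ (n + 1)) := by
        rw [← ht]
        exact (unitAt_iff hzV t).2 hz
      have h2 := unitAt_div h1 (E.unitAt_of_mem (hV hzV))
      rw [div_div_div_cancel_right₀ (E.h0 y)] at h2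
      exact hu' z h2
    obtain ⟨N, hN⟩ := exists_pow V.2 (gen_mem hyV) t ht0 hz'
    refine ⟨V.1, N, hyV, fun m hm z hz => ?_⟩
    have h1 := hN m hm z hz
    rw [ht] at h1
    have h2 := unitAt_regAt (unitAt_pow (unitAt_inv (E.unitAt_of_mem (hV hz))) m)
    have h3 := regAt_mul h2 h1
    rw [inv_div, ← mul_assoc, ← mul_pow, mul_comm (δ y ^ (n + 1) / δ z ^ (n + 1)), div_mul_div_cancel₀ (E.h0 y)] at h3
    exact h3
  choose V N hyV hN using key
  obtain ⟨T, hT⟩ := isCompact_univ.elim_finite_subcover (fun y => (V y : Set X)) (fun y => (V y).2)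
    (fun y _ => Set.mem_iUnion.2 ⟨y, hyV y⟩)
  let m : ℕ := T.sup N
  have hm : ∀ z, RegAt z ((s / δ z ^ (n + 1)) ^ m * u) := by
    intro z
    obtain ⟨y, hy, hz⟩ := Set.mem_iUnion₂.1 (hT (Set.mem_univ z))
    exact hN y m (Finset.le_sup hy) z hz
  have hpow : ∀ z, δ z ^ (((n + 1) * m : ℕ) : ℤ) = (δ z ^ (n + 1)) ^ m := fun z => by
    rw [zpow_natCast, pow_mul]
  refine ⟨(n + 1) * m, s ^ m * u, s ^ m, fun z => ?_, fun z => ?_, ?_, ?_⟩
  · have h1 := hm z
    rw [div_pow, div_mul_eq_mul_div] at h1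
    change RegAt z (s ^ m * u / δ z ^ (((n + 1) * m : ℕ) : ℤ))
    rw [hpow]
    exact h1
  · change RegAt z (s ^ m / δ z ^ (((n + 1) * m : ℕ) : ℤ))
    rw [hpow, ← div_pow]
    exact regAt_pow (hs z) m
  · rw [hpow, ← div_pow]
    exact unitAt_pow hsx m
  · rw [mul_div_cancel_left₀ _ (pow_ne_zero m hs0)]

end Groth.Agent.Surf.K405.AmpFrac
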