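import Groth.Agent.Surf.K460.ZGeo
import Groth.Agent.S6545
import Groth.Agent.Dix.InterNum
import Groth.Agent.VBCurve.K704.Base
import Groth.Agent.S2821
import Groth.Agent.S1535

/-!
# Two-torsion classes on smooth proper curves in cocycle form
-/

set_option autoImplicit false
universe u
open CategoryTheory CategoryTheory.Limits AlgebraicGeometry TopologicalSpace Opposite IsLocalRing

namespace Groth.Agent.Surf.K405.TorsTwo

open Groth.Agent Groth.Agent.Fdesc.LocGen Groth.Agent.Lefpen.H725.CocDef Groth.Agent.Lefpen.H521.CartierCoc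
open K801.Cousin K801.CousinH1 K801.LEq K460.ZSec K460.ZCurve

variable {X : Scheme.{u}} [IsIntegral X]

/-- A rational function whose square is a unit at a normal point is a unit there. -/
theorem unitAt_of_sq {x : X} (hx : IsIntegrallyClosed (X.presheaf.stalk x)) {v : X.functionField}
    (h : UnitAt x (v ^ 2)) : UnitAt x v := by
  have key : ∀ w : X.functionField, RegAt x (w ^ 2) → RegAt x w := by
    intro w hw
    rw [regAt_iff] at hw ⊢
    obtain ⟨s, hs⟩ := hw
    have h1 : IsIntegral (X.presheaf.stalk x) w := by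
      refine IsIntegral.of_pow (n := 2) (by norm_num) ?_
      rw [← hs]
      exact isIntegral_algebraMap
    obtain ⟨t, ht⟩ := IsIntegrallyClosed.isIntegral_iff.1 h1
    exact ⟨t, ht⟩
  have h0 : v ≠ 0 := by
    rintro rfl
    exact unitAt_ne_zero h (by norm_num)
  have h1 := key v (unitAt_regAt h)
  have h2 := key v⁻¹ (by
    rw [inv_pow]
    exact unitAt_regAt (unitAt_inv h))
  exact unitAt_of_regAt h1 h2 (mul_inv_cancel₀ h0)

attribute [local instance] algK

/-- A two-torsion class on a smooth proper curve of positive genus, in cocycle form. -/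
theorem exists_tors (k : Type u) [Field k] [IsAlgClosed k] [CharZero k] {B : Scheme.{u}}
    [B.Over (Spec (CommRingCat.of k))] [IsIntegral B] [IsProper (B ↘ Spec (CommRingCat.of k))]
    [Smooth (B ↘ Spec (CommRingCat.of k))] (hdim : topologicalKrullDim B = 1) (hg : 1 ≤ Curv2.genus k B)
    {M : B.Modules} (hM : PicF.IsInvertible M) {δ : B → B.functionField} (hδ : HasCoc M δ) :
    ∃ (ε : B → B.functionField) (g : B.functionField), (∀ b, ε b ≠ 0) ∧ g ≠ 0 ∧ (∀ b, UnitAt b (ε b ^ 2 / g)) ∧
      (∀ m : B.functionField, g ≠ m ^ 2) ∧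
      Curv2.deg k B M 1 + 1 - Curv2.genus k B ≤ (Module.finrank k (secs k (fun b => ε b * δ b)) : ℤ) := by
  -- a non-trivial class
  have h2 : IsUnit ((2 : ℕ) : k) := by
    rw [isUnit_iff_ne_zero]
    exact_mod_cast (two_ne_zero : (2 : k) ≠ 0)
  have hcard := S6545.result k B hdim 2 h2
  have hlt : 1 < Nat.card {c : PicF.Cl B | ∃ M : B.Modules, PicF.cl M = c ∧ PicF.IsInvertible M ∧
      Nonempty (CohB1.tensorPow M 2 ≅ Coh.structureModule B)} := by
    rw [hcard]
    exact Nat.one_lt_pow (by omega) (by norm_num)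
  have hex : ∃ N : B.Modules, PicF.IsInvertible N ∧ Nonempty (CohB1.tensorPow N 2 ≅ Coh.structureModule B) ∧
      ¬ Nonempty (N ≅ Coh.structureModule B) := by
    by_contra hcon
    push Not at hcon
    have hss : Subsingleton {c : PicF.Cl B | ∃ M : B.Modules, PicF.cl M = c ∧ PicF.IsInvertible M ∧
        Nonempty (CohB1.tensorPow M 2 ≅ Coh.structureModule B)} := by
      refine ⟨fun a b => Subtype.ext ?_⟩
      obtain ⟨a, N, rfl, hN, hN'⟩ := a
      obtain ⟨b, N', rfl, hN1, hN1'⟩ := b
      obtain ⟨i⟩ := hcon N hN hN'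
      obtain ⟨j⟩ := hcon N' hN1 hN1'
      exact Quot.sound ⟨i ≪≫ j.symm⟩
    have := Finite.card_le_one_iff_subsingleton.2 hss
    omega
  obtain ⟨η, hη, ⟨φ⟩, hne⟩ := hex
  obtain ⟨ε, hε⟩ := exists_hasCoc hη
  obtain ⟨c, hc, hcu⟩ := Lefpen.H718.CocIso.exists_const_of_iso (hasCoc_pow hε 2) hasCoc_one φ
  refine ⟨ε, c⁻¹, hε.1, inv_ne_zero hc, fun b => ?_, fun m hm => ?_, ?_⟩
  · have h1 := hcu b
    rw [div_one] at h1
    rwa [div_inv_eq_mul, mul_comm]
  · have hm0 : m ≠ 0 := by
      rintro rfl
      exact inv_ne_zero hc (by rw [hm]; norm_num)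
    refine hne (hasCoc_iso hε hasCoc_one m⁻¹ (inv_ne_zero hm0) fun b => ?_)
    rw [div_one]
    have hreg := S1535.result k B b
    have hufd := (S2821.result (B.presheaf.stalk b)).2
    refine unitAt_of_sq (by infer_instance) ?_
    have h1 := hcu b
    rw [div_one] at h1
    rw [mul_pow, inv_pow, ← hm, inv_inv]
    exact h1
  · have h4 := finrank_secs k (hasCoc_tensor hε hδ)
    have h5 := Dix.InterNum.deg_tensor k B hdim hη hM
    have h6 := Dix.InterNum.deg_tensor k B hdim
      (Fdesc.LocGen.isInvertible_tensorMod Fdesc.LocGen.isInvertible_structureModule hη) hη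
    have h7 := Dix.InterNum.deg_tensor k B hdim (Fdesc.LocGen.isInvertible_structureModule (X := B)) hη
    have h8 := Dix.InterNum.deg_congr k B hdim φ
    have h9 := Dix.InterNum.deg_unit k B
    have h10 : Curv2.deg k B (CohB1.tensorPow η 2) 1 =
      Curv2.deg k B (CohB1.tensorMod (CohB1.tensorMod (Coh.structureModule B) η) η) 1 := rfl
    have h11 := K704.Base.deg_eq_one k B hdim (CohB1.tensorMod η M)
    rw [h4]
    omega

end Groth.Agent.Surf.K405.TorsTwo
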